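import Cfsg.Agent.Lib.M23Cocode.Loop

/-!
The group of loop automorphisms over M23: an extension by the cocode without complement.
-/

set_option autoImplicit false
set_option maxRecDepth 20000

namespace Cfsg.Agent.M23Cocode.Build

open Cfsg Cfsg.Agent.Golay.Basic Cfsg.Agent.Golay.M24 Cfsg.Agent.Golay.Cert Cfsg.Agent.M23Cocode.Loop

/-- Loop elements. -/
abbrev X : Type := W × ZMod 2

/-- The loop product. -/
def op (x y : X) : X := (xr x.1 y.1, x.2 + y.2 + phi x.1 y.1)

theorem add_self₂ (a : ZMod 2) : a + a = 0 := by revert a; decide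

/-- The big group. -/
def E : Subgroup (↥Spor.M23 × Equiv.Perm X) where
  carrier := {e | (∀ x y, e.2 (op x y) = op (e.2 x) (e.2 y)) ∧
    (∀ x, cw (e.2 x).1 = fun p => cw x.1 ((e.1 : Equiv.Perm GolayPt)⁻¹ p)) ∧ e.2 (0, 1) = (0, 1)}
  one_mem' := ⟨fun _ _ => rfl, fun _ => by simp, rfl⟩
  mul_mem' := by
    rintro ⟨g, σ⟩ ⟨h, τ⟩ ⟨hσ1, hσ2, hσ3⟩ ⟨hτ1, hτ2, hτ3⟩
    refine ⟨fun x y => ?_, fun x => ?_, ?_⟩
    · show σ (τ (op x y)) = op (σ (τ x)) (σ (τ y))
      rw [hτ1, hσ1]
    · show cw (σ (τ x)).1 = _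
      rw [hσ2, hτ2]
      funext p
      simp [mul_inv_rev]
    · show σ (τ (0, 1)) = _
      rw [hτ3, hσ3]
  inv_mem' := by
    rintro ⟨g, σ⟩ ⟨hσ1, hσ2, hσ3⟩
    refine ⟨fun x y => ?_, fun x => ?_, ?_⟩
    · apply σ.injective
      show σ (σ.symm (op x y)) = σ (op (σ.symm x) (σ.symm y))
      rw [hσ1]; simp
    · have h := hσ2 (σ.symm x)
      simp only [Equiv.apply_symm_apply] at h
      funext p
      show cw (σ.symm x).1 p = cw x.1 ((((g⁻¹ : ↥Spor.M23) : Equiv.Perm GolayPt))⁻¹ p)
      rw [h]
      simp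
    · apply σ.injective
      show σ (σ.symm (0, 1)) = σ (0, 1)
      rw [hσ3]; simp

theorem op_self_zero : op ((0, 0) : X) (0, 0) = (0, 0) := by
  simp [op, xr_self, phi_zero]

theorem map_zero' {e : ↥Spor.M23 × Equiv.Perm X} (he : e ∈ E) : e.2 (0, 0) = (0, 0) := by
  have h := he.1 (0, 0) (0, 0)
  rw [op_self_zero] at h
  have h1 : (e.2 (0, 0)).1 = 0 := (congrArg Prod.fst h).trans (xr_self _)
  have h2 := congrArg Prod.snd h
  simp only [op, h1, phi_zero, add_zero, add_self₂] at h2
  exact Prod.ext h1 h2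

theorem map_snd {e : ↥Spor.M23 × Equiv.Perm X} (he : e ∈ E) (u : W) (s : ZMod 2) :
    e.2 (u, s) = ((e.2 (u, 0)).1, (e.2 (u, 0)).2 + s) := by
  rcases (by decide : ∀ a : ZMod 2, a = 0 ∨ a = 1) s with rfl | rfl
  · simp
  · have h := he.1 (u, 0) (0, 1)
    have e1 : op ((u, 0) : X) (0, 1) = (u, 1) := by simp [op, xr_zero, phi_zero]
    rw [e1, he.2.2] at h
    rw [h]
    simp [op, xr_zero, phi_zero]

theorem kernel_form {e : ↥Spor.M23 × Equiv.Perm X} (he : e ∈ E) (h1 : e.1 = 1) :
    ∃ l : W → ZMod 2, (∀ u v, l (xr u v) = l u + l v) ∧ ∀ x : X, e.2 x = (x.1, x.2 + l x.1) := by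
  have hfst : ∀ x, (e.2 x).1 = x.1 := fun x => cw_injective (by
    rw [he.2.1 x, h1]; simp)
  refine ⟨fun u => (e.2 (u, 0)).2, fun u v => ?_, fun ⟨u, s⟩ => ?_⟩
  · have h := congrArg Prod.snd (he.1 (u, 0) (v, 0))
    simp only [op, hfst, add_zero, zero_add] at h
    rw [map_snd he (xr u v) (phi u v)] at h
    exact add_right_cancel h
  · rw [map_snd he, hfst, add_comm s]

/-- A lift of one of the permutations. -/
noncomputable def liftPerm (k : Fin 2) : Equiv.Perm X :=
  Equiv.ofBijective (fun x => (gimg k x.1, x.2 + sgn k x.1)) (Finite.injective_iff_bijective.1 (by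
    rintro ⟨u, s⟩ ⟨v, t⟩ h
    simp only [Prod.mk.injEq] at h
    have huv : u = v := by
      apply cw_injective
      have := congrArg cw h.1
      rw [cw_gimg, cw_gimg] at this
      funext p
      have := congrFun this ((pg k : Equiv.Perm GolayPt) p)
      simpa using this
    subst huv
    rw [add_right_cancel h.2]))

theorem liftPerm_apply (k : Fin 2) (x : X) : liftPerm k x = (gimg k x.1, x.2 + sgn k x.1) := rfl

theorem lift_mem (k : Fin 2) : (pg k, liftPerm k) ∈ E := by
  refine ⟨fun x y => ?_, fun x => cw_gimg k x.1, ?_⟩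
  · simp only [op, liftPerm_apply, gimg_xr, sgn_mul, psi]
    refine Prod.ext rfl ?_
    simp only
    linear_combination (norm := skip) (add_self₂ (phi x.1 y.1))
    ring
  · simp only [liftPerm_apply, gimg_zero]
    have h := signOk_eq k
    simp only [signOk, Bool.and_eq_true, decide_eq_true_eq] at h
    simp [h.1]

/-- The lift. -/
noncomputable def lift (k : Fin 2) : ↥E := ⟨(pg k, liftPerm k), lift_mem k⟩

/-- The projection. -/
def proj : ↥E →* ↥Spor.M23 := (MonoidHom.fst _ _).comp E.subtype

theorem proj_lift (k : Fin 2) : proj (lift k) = pg k := rfl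

/-- The pair generates. -/
def genOk : Bool :=
  (List.range 4).all fun k => (List.range 24).all fun i =>
    runT Data.tabs ((M23Gen.Data.certs.head!).2.2.getD k []) i == tabAt (genTab M23Gen.Data.gens k) i

theorem genOk_eq : genOk = true := by decide +kernel

theorem tabs_ok : Data.tabs.all tabOK = true := by decide +kernel

theorem tabs_genTab : ∀ j : Fin 2, genTab Data.tabs j.1 = tb j := fun _ => rfl

theorem proj_surjective : Function.Surjective proj := by
  rw [← MonoidHom.range_eq_top]
  refine Subgroup.map_injective Spor.M23.subtype_injective ?_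
  rw [← MonoidHom.range_eq_map Spor.M23.subtype, Subgroup.range_subtype]
  refine le_antisymm ?_ ?_
  · rintro _ ⟨g, -, rfl⟩; exact g.2
  · set K := proj.range.map Spor.M23.subtype
    have hk : ∀ j : Fin 2, tabPerm (tb j) ∈ K := fun j => ⟨pg j, ⟨lift j, rfl⟩, rfl⟩
    have hw : ∀ w, evalT Data.tabs w ∈ K := by
      intro w
      induction w with
      | nil => exact K.one_mem
      | cons a w ih =>
        refine K.mul_mem ?_ ih
        rcases Nat.lt_or_ge a 2 with ha | ha
        · exact hk ⟨a, ha⟩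
        · rw [genTab, List.getD_eq_default _ _ (by simpa [Data.tabs] using ha),
            Cfsg.Agent.Golay.TabList.tabPerm_idTab]
          exact K.one_mem
    conv_lhs => rw [← M23Gen.Use.gens_eq]
    refine tabGroup_le_of fun t ht => ?_
    obtain ⟨i, hi, hit⟩ := List.getElem_of_mem ht
    have hgi : genTab M23Gen.Data.gens i = t := by rw [genTab, List.getD_eq_getElem _ _ hi, hit]
    have h := genOk_eq
    simp only [genOk, List.all_eq_true, List.mem_range, beq_iff_eq] at h
    have he : tabPerm t = evalT Data.tabs ((M23Gen.Data.certs.head!).2.2.getD i []) := by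
      refine Equiv.ext fun p => ix_injective ?_
      rw [ix_evalT tabs_ok, isTab_tabPerm (List.all_eq_true.1 M23Gen.Use.gens_ok _ ht),
        h i (by simpa [M23Gen.Data.gens] using hi) _ (ix_lt p), hgi]
    rw [he]; exact hw _

/-! ### The kernel -/

/-- The value of a word on an element of the subcode. -/
irreducible_def pair (w : GolayPt → ZMod 2) (u : W) : ZMod 2 := ∑ p, w p * cw u p

theorem dot_left {α : Type*} [Fintype α] (w a b : α → ZMod 2) :
    ∑ p, w p * (a + b) p = ∑ p, w p * a p + ∑ p, w p * b p := by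
  rw [← Finset.sum_add_distrib]
  exact Finset.sum_congr rfl fun p _ => mul_add _ _ _

theorem dot_right {α : Type*} [Fintype α] (v w a : α → ZMod 2) :
    ∑ p, (v + w) p * a p = ∑ p, v p * a p + ∑ p, w p * a p := by
  rw [← Finset.sum_add_distrib]
  exact Finset.sum_congr rfl fun p _ => add_mul _ _ _

theorem dot_zero {α : Type*} [Fintype α] (w : α → ZMod 2) : ∑ p, w p * (0 : α → ZMod 2) p = 0 :=
  Finset.sum_eq_zero fun p _ => mul_zero _

theorem dot_congr {α : Type*} [Fintype α] (w a b : α → ZMod 2) (h : a = b) :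
    ∑ p, w p * a p = ∑ p, w p * b p := by rw [h]

theorem pair_xr (w : GolayPt → ZMod 2) (u v : W) : pair w (xr u v) = pair w u + pair w v :=
  by simp only [pair_def]; exact (dot_congr w _ _ (cw_xr u v)).trans (dot_left w (cw u) (cw v))

theorem pair_zero (w : GolayPt → ZMod 2) : pair w 0 = 0 :=
  by simp only [pair_def]; exact (dot_congr w _ _ cw_zero).trans (dot_zero w)

theorem pair_add (v w : GolayPt → ZMod 2) (u : W) : pair (v + w) u = pair v u + pair w u :=
  by simp only [pair_def]; exact dot_right v w (cw u)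

theorem pair_eq (w : GolayPt → ZMod 2) (u : W) : pair w u = par2 (mask (support₂ w)) (cm u) := by
  rw [pair_def, par2_eq, maskSet_mask, word_support₂]; rfl

theorem pair_par2 (d : ℕ) (u : W) : pair (word (maskSet d)) u = par2 d (cm u) := by
  rw [pair_def, par2_eq]; rfl

attribute [local irreducible] cw phi sgn gimg

/-- A translation. -/
def shift (w : GolayPt → ZMod 2) (x : X) : X := (x.1, x.2 + pair w x.1)

theorem shift_shift (w : GolayPt → ZMod 2) (x : X) : shift w (shift w x) = x :=
  Prod.ext rfl (by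
    show x.2 + pair w x.1 + pair w x.1 = x.2
    rw [add_assoc, add_self₂, add_zero])

/-- The translation as a permutation. -/
def shiftPerm (w : GolayPt → ZMod 2) : Equiv.Perm X :=
  ⟨shift w, shift w, shift_shift w, shift_shift w⟩

theorem shiftPerm_apply (w : GolayPt → ZMod 2) (x : X) :
    shiftPerm w x = (x.1, x.2 + pair w x.1) := rfl

theorem shift_mem (w : GolayPt → ZMod 2) : ((1, shiftPerm w) : ↥Spor.M23 × Equiv.Perm X) ∈ E := by
  refine ⟨fun x y => ?_, fun x => ?_, ?_⟩
  · refine Prod.ext rfl ?_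
    show x.2 + y.2 + phi x.1 y.1 + pair w (xr x.1 y.1) =
      x.2 + pair w x.1 + (y.2 + pair w y.1) + phi x.1 y.1
    rw [pair_xr]; abel
  · funext p
    show cw x.1 p = cw x.1 (((1 : ↥Spor.M23) : Equiv.Perm GolayPt)⁻¹ p)
    rw [Subgroup.coe_one, inv_one, Equiv.Perm.one_apply]
  · refine Prod.ext rfl ?_
    show 1 + pair w 0 = 1
    rw [pair_zero, add_zero]

/-- The kernel element of a word. -/
def kerEl (w : GolayPt → ZMod 2) : proj.ker := ⟨⟨(1, shiftPerm w), shift_mem w⟩, rfl⟩

theorem kerEl_add (v w : GolayPt → ZMod 2) : kerEl (v + w) = kerEl v * kerEl w := by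
  apply Subtype.ext; apply Subtype.ext
  refine Prod.ext ((one_mul _).symm) (Equiv.ext fun x => ?_)
  show shiftPerm (v + w) x = shiftPerm v (shiftPerm w x)
  rw [shiftPerm_apply, shiftPerm_apply, shiftPerm_apply, pair_add]
  refine Prod.ext rfl ?_
  show x.2 + (pair v x.1 + pair w x.1) = x.2 + pair w x.1 + pair v x.1
  abel

/-- The map from words to the kernel. -/
def theta : (GolayPt → ZMod 2) →+ Additive ↥proj.ker :=
  AddMonoidHom.mk' (fun w => Additive.ofMul (kerEl w)) fun v w => by rw [kerEl_add]; rfl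

/-- Dual words. -/
def dualOk : Bool :=
  (List.range 11).all fun i => (List.range 11).all fun j =>
    decide (par2 (Data.dual.getD i 0) (cm (bit j)) = if i = j then 1 else 0)

theorem dualOk_eq : dualOk = true := by decide +kernel

theorem pair_sum (f : ℕ → ZMod 2) (w : ℕ → GolayPt → ZMod 2) (u : W) (S : Finset ℕ) :
    pair (∑ i ∈ S, f i • w i) u = ∑ i ∈ S, f i * pair (w i) u := by
  simp only [pair_def]
  simp only [Finset.mul_sum]
  rw [Finset.sum_comm]
  refine Finset.sum_congr rfl fun p _ => ?_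
  rw [Finset.sum_apply, Finset.sum_mul]
  exact Finset.sum_congr rfl fun i _ => mul_assoc _ _ _

theorem dual_pair (i : ℕ) (hi : i < 11) (j : ℕ) (hj : j < 11) :
    pair (word (maskSet (Data.dual.getD i 0))) (bit j) = if i = j then 1 else 0 := by
  have h := dualOk_eq
  rw [dualOk, List.all_eq_true] at h
  have h2 := h i (List.mem_range.2 hi)
  rw [List.all_eq_true] at h2
  have h3 := of_decide_eq_true (h2 j (List.mem_range.2 hj))
  rw [pair_par2]; exact h3

theorem theta_surjective : Function.Surjective theta := by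
  intro n
  obtain ⟨⟨⟨⟨g, σ⟩, he⟩, hn⟩, rfl⟩ := Additive.ofMul.surjective n
  have h1 : g = 1 := hn
  obtain ⟨l, hl, hlx⟩ := kernel_form he h1
  refine ⟨∑ i ∈ Finset.range 11, l (bit i) • word (maskSet (Data.dual.getD i 0)), ?_⟩
  set w := ∑ i ∈ Finset.range 11, l (bit i) • word (maskSet (Data.dual.getD i 0)) with hw
  show Additive.ofMul (kerEl w) = _
  refine congrArg Additive.ofMul (Subtype.ext (Subtype.ext (Prod.ext h1.symm (Equiv.ext fun x => ?_))))
  show shiftPerm w x = σ x
  rw [shiftPerm_apply, hlx]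
  refine Prod.ext rfl (congrArg (x.2 + ·) ?_)
  refine add_eq_of_bits (pair_xr w) hl ?_ (fun j hj => ?_) x.1
  · have h0 := hl 0 0
    rw [xr_self, add_self₂] at h0
    rw [h0, pair_zero]
  · rw [hw, pair_sum, Finset.sum_eq_single j]
    · rw [dual_pair j hj j hj, if_pos rfl, mul_one]
    · intro i hi hij
      rw [dual_pair i (Finset.mem_range.1 hi) j hj, if_neg hij, mul_zero]
    · intro hj'; exact absurd (Finset.mem_range.2 hj) hj'

/-- Code words are orthogonal to the subcode; the high parts orthogonal to it are listed. -/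
def orthOk : Bool :=
  codeList.all (fun m => (List.range 11).all fun j => Nat.beq (pc (m &&& cm (bit j)) % 2) 0) &&
    ((List.range 11).all fun j => Nat.beq (8388608 &&& cm (bit j)) 0) &&
    (List.range 4096).all fun r =>
      !((List.range 11).all fun j => Nat.beq (pc ((r * 4096) &&& cm (bit j)) % 2) 0) ||
        isCode (r * 4096) || isCode ((r * 4096) ^^^ 8388608)

theorem orthOk_eq : orthOk = true := by decide +kernel

theorem highOk : codeList.all (fun m => Nat.blt m 16777216) = true := by decide +kernel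

theorem enc_low : ∀ a < 4096, enc basisMasks a % 4096 = a := by decide +kernel

theorem par2_zero_iff (a b : ℕ) : par2 a b = 0 ↔ pc (a &&& b) % 2 = 0 := by
  rw [par2, ZMod.natCast_eq_zero_iff_even, Nat.even_iff]

theorem none_mask : mask (support₂ (Pi.single none 1 : GolayPt → ZMod 2)) = 8388608 := by
  decide +kernel

theorem theta_iff_orth (w : GolayPt → ZMod 2) :
    theta w = 0 ↔ ∀ j < 11, par2 (mask (support₂ w)) (cm (bit j)) = 0 := by
  constructor
  · intro h j hj
    have h1 : kerEl w = 1 := Additive.ofMul.injective h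
    have h2 : shiftPerm w ((bit j, 0) : X) = (bit j, 0) :=
      congrArg (fun n : proj.ker => n.1.1.2 ((bit j, 0) : X)) h1
    rw [shiftPerm_apply] at h2
    have h3 := congrArg Prod.snd h2
    rw [← pair_eq]
    exact (zero_add _).symm.trans h3
  · intro h
    refine congrArg Additive.ofMul (Subtype.ext (Subtype.ext (Prod.ext rfl (Equiv.ext fun x => ?_))))
    show shiftPerm w x = x
    have h0 : pair w x.1 = 0 :=
      add_eq_of_bits (g := fun _ => (0 : ZMod 2)) (pair_xr w) (fun _ _ => (add_zero _).symm)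
        (pair_zero w) (fun j hj => by rw [pair_eq, h j hj]) x.1
    rw [shiftPerm_apply, h0, add_zero]

theorem code_orth {c : ℕ} (hc : isCode c = true) {j : ℕ} (hj : j < 11) : par2 c (cm (bit j)) = 0 := by
  have h := orthOk_eq
  rw [orthOk, Bool.and_eq_true, Bool.and_eq_true, List.all_eq_true] at h
  have h2 := h.1.1 c (mem_codeList hc)
  rw [List.all_eq_true] at h2
  exact (par2_zero_iff _ _).2 (Nat.eq_of_beq_eq_true (h2 j (List.mem_range.2 hj)))

theorem none_orth {j : ℕ} (hj : j < 11) : par2 8388608 (cm (bit j)) = 0 := by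
  have h := orthOk_eq
  rw [orthOk, Bool.and_eq_true, Bool.and_eq_true] at h
  have h2 := h.1.2
  rw [List.all_eq_true] at h2
  rw [par2_zero_iff, Nat.eq_of_beq_eq_true (h2 j (List.mem_range.2 hj))]
  rfl

theorem high_orth {r : ℕ} (hr : r < 4096) (h : ∀ j < 11, par2 (r * 4096) (cm (bit j)) = 0) :
    isCode (r * 4096) = true ∨ isCode ((r * 4096) ^^^ 8388608) = true := by
  have hk := orthOk_eq
  rw [orthOk, Bool.and_eq_true] at hk
  have h2 := hk.2
  rw [List.all_eq_true] at h2
  have h3 := h2 r (List.mem_range.2 hr)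
  have hall : (List.range 11).all (fun j => Nat.beq (pc ((r * 4096) &&& cm (bit j)) % 2) 0) = true :=
    List.all_eq_true.2 fun j hj => by
      rw [(par2_zero_iff _ _).1 (h j (List.mem_range.1 hj))]; rfl
  rw [hall, Bool.not_true, Bool.false_or, Bool.or_eq_true] at h3
  exact h3

theorem orth_iff (m : ℕ) (hm : m < 2 ^ 24) : (∀ j < 11, par2 m (cm (bit j)) = 0) ↔
    (isCode m = true ∨ isCode (m ^^^ 8388608) = true) := by
  constructor
  · intro h
    generalize hcdef : enc basisMasks m = c
    have hcc : isCode c = true := isCode_of_mem_codeList (hcdef ▸ enc_mem_spanList _ _)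
    have hc24 : c < 2 ^ 24 := by
      have := List.all_eq_true.1 highOk c (mem_codeList hcc)
      rw [Nat.blt_eq] at this
      exact lt_of_lt_of_le this (le_of_eq (by norm_num))
    have hlow : (m ^^^ c) % 4096 = 0 := by
      have e1 : c % 4096 = m % 4096 := by
        rw [← hcdef, ← enc_mod, show basisMasks.length = 12 from rfl, show (2 : ℕ) ^ 12 = 4096 from rfl]
        exact enc_low _ (Nat.mod_lt _ (by norm_num))
      rw [show (4096 : ℕ) = 2 ^ 12 from rfl, Nat.xor_mod_two_pow, show (2 : ℕ) ^ 12 = 4096 from rfl,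
        e1, Nat.xor_self]
    have hlt : m ^^^ c < 2 ^ 24 := Nat.xor_lt_two_pow hm hc24
    obtain ⟨r, hr⟩ := Nat.dvd_of_mod_eq_zero hlow
    rw [mul_comm] at hr
    have hrlt : r < 4096 := by
      norm_num at hlt
      omega
    have hpar : ∀ j < 11, par2 (r * 4096) (cm (bit j)) = 0 := fun j hj => by
      rw [← hr, par2_comm, par2_xor, par2_comm, h j hj, par2_comm, code_orth hcc hj, add_zero]
    rcases high_orth hrlt hpar with h' | h'
    · refine Or.inl ?_
      rw [← hr] at h'
      have := isCode_xor h' hcc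
      rwa [Nat.xor_assoc, Nat.xor_self, Nat.xor_zero] at this
    · refine Or.inr ?_
      rw [← hr] at h'
      have := isCode_xor h' hcc
      rwa [show (m ^^^ c ^^^ 8388608) ^^^ c = m ^^^ 8388608 by
        rw [Nat.xor_assoc m c, Nat.xor_comm c 8388608, ← Nat.xor_assoc, Nat.xor_assoc, Nat.xor_self,
          Nat.xor_zero]] at this
  · rintro (h | h) j hj
    · exact code_orth h hj
    · have := code_orth h hj
      rw [par2_comm, par2_xor, par2_comm (cm _) 8388608, none_orth hj, add_zero, par2_comm] at this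
      exact this

theorem theta_eq_zero (w : GolayPt → ZMod 2) :
    theta w = 0 ↔ (w ∈ golayCode ∨ w + Pi.single none 1 ∈ golayCode) := by
  rw [theta_iff_orth, orth_iff _ (mask_lt _), mem_code_iff, mem_code_iff, support₂_add,
    mask_symmDiff, none_mask]

theorem theta_conj (e : ↥E) (w : GolayPt → ZMod 2) :
    (kerEl (w ∘ ⇑((proj e : Equiv.Perm GolayPt)⁻¹))).1 = e * (kerEl w).1 * e⁻¹ := by
  rw [eq_mul_inv_iff_mul_eq]
  obtain ⟨⟨g, σ⟩, he⟩ := e
  apply Subtype.ext
  refine Prod.ext ?_ (Equiv.ext fun ⟨u, s⟩ => ?_)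
  · show 1 * g = g * 1
    rw [one_mul, mul_one]
  show shiftPerm _ (σ (u, s)) = σ (shiftPerm w (u, s))
  have ms : ∀ t, σ (u, t) = ((σ (u, 0)).1, (σ (u, 0)).2 + t) := fun t => map_snd he u t
  have e1 : shiftPerm w (u, s) = (u, s + pair w u) := shiftPerm_apply w (u, s)
  rw [e1, shiftPerm_apply, ms s, ms (s + pair w u)]
  refine Prod.ext rfl ?_
  show (σ (u, 0)).2 + s + pair _ (σ (u, 0)).1 = (σ (u, 0)).2 + (s + pair w u)
  have hcw : cw (σ (u, 0)).1 = fun p => cw u ((g : Equiv.Perm GolayPt)⁻¹ p) := he.2.1 (u, 0)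
  rw [← add_assoc]
  refine congrArg ((σ (u, 0)).2 + s + ·) ?_
  simp only [pair_def]
  rw [hcw]
  exact Equiv.sum_comp ((g : Equiv.Perm GolayPt)⁻¹) (fun p => w p * cw u p)

/-! ### No complement -/

/-- The effect of a word of lifts on a starting word, with the dependence on the kernel parts. -/
def run : List ℕ → W → W × ZMod 2 × W × W
  | [], u => (u, 0, 0, 0)
  | k :: w, u =>
    let r := run w u
    if k = 0 then (gimg 0 r.1, r.2.1 + sgn 0 r.1, xr r.2.2.1 r.1, r.2.2.2)
    else (gimg 1 r.1, r.2.1 + sgn 1 r.1, r.2.2.1, xr r.2.2.2 r.1)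

/-- The sum of the certificate. -/
def total : List (List ℕ × W) → ZMod 2 × W × W
  | [] => (0, 0, 0)
  | p :: ps =>
    let r := run p.1 p.2
    let t := total ps
    (r.2.1 + t.1, xr r.2.2.1 t.2.1, xr r.2.2.2 t.2.2)

/-- The certificate, flattened. -/
def pairs : List (List ℕ × W) :=
  Data.rels.flatMap fun r => r.2.map fun u => (r.1, ⟨u % 2048, Nat.mod_lt _ (by norm_num)⟩)

/-- The certificate check. -/
def relOk : Bool :=
  (Data.rels.all fun r => M23Gen.Use.trivW Data.tabs r.1 && r.1.all fun k => Nat.blt k 2) &&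
    decide (total pairs = (1, 0, 0))

theorem relOk_eq : relOk = true := by decide +kernel

theorem no_complement (H : Subgroup ↥E) (hH : H ⊓ proj.ker = ⊥) : H ⊔ proj.ker ≠ ⊤ := by
  intro hsup
  have hinj : Function.Injective (proj.comp H.subtype) := (injective_iff_map_eq_one _).2 fun x hx => by
    have : (x : ↥E) ∈ H ⊓ proj.ker := ⟨x.2, hx⟩
    rw [hH, Subgroup.mem_bot] at this
    exact Subtype.ext this
  have hsurj : Function.Surjective (proj.comp H.subtype) := fun y => by
    obtain ⟨e, rfl⟩ := proj_surjective y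
    obtain ⟨a, ha, b, hb, rfl⟩ := Subgroup.mem_sup_of_normal_right.1 (hsup ▸ Subgroup.mem_top e)
    exact ⟨⟨a, ha⟩, by rw [map_mul, MonoidHom.mem_ker.1 hb, mul_one]; rfl⟩
  let iso := MulEquiv.ofBijective _ ⟨hinj, hsurj⟩
  let sec : ↥Spor.M23 →* ↥E := H.subtype.comp iso.symm.toMonoidHom
  have hsec : ∀ g, proj (sec g) = g := fun g => iso.apply_symm_apply g
  have hlin : ∀ k : Fin 2, ∃ l : W → ZMod 2, (∀ u v, l (xr u v) = l u + l v) ∧
      ∀ x : X, (sec (pg k)).1.2 x = (gimg k x.1, x.2 + l x.1 + sgn k x.1) := fun k => by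
    set n := (lift k)⁻¹ * sec (pg k) with hn
    have h1 : proj n = 1 := by rw [hn, map_mul, map_inv, proj_lift, hsec, inv_mul_cancel]
    obtain ⟨l, hl, hlx⟩ := kernel_form n.2 h1
    refine ⟨l, hl, fun x => ?_⟩
    have he : sec (pg k) = lift k * n := by rw [hn, mul_inv_cancel_left]
    rw [he]
    show liftPerm k (n.1.2 x) = _
    rw [hlx, liftPerm_apply]
  choose l hl hlx using hlin
  let g : ℕ → ↥Spor.M23 := fun k => if k = 0 then pg 0 else pg 1
  have hrun : ∀ (w : List ℕ) (u : W), (sec (w.map g).prod).1.2 (u, 0) =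
      ((run w u).1, (run w u).2.1 + l 0 (run w u).2.2.1 + l 1 (run w u).2.2.2) := by
    intro w u
    have l00 : l 0 0 = 0 := by have := hl 0 0 0; rwa [xr_self, add_self₂] at this
    have l10 : l 1 0 = 0 := by have := hl 1 0 0; rwa [xr_self, add_self₂] at this
    induction w with
    | nil =>
      rw [List.map_nil, List.prod_nil, map_one]
      show (u, (0 : ZMod 2)) = _
      simp [run, l00, l10]
    | cons k w ih =>
      rw [List.map_cons, List.prod_cons, map_mul]
      show (sec (g k)).1.2 ((sec (w.map g).prod).1.2 (u, 0)) = _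
      rw [ih]
      simp only [g, run]
      split_ifs with hk <;> rw [hlx] <;> refine Prod.ext rfl ?_ <;> simp only [hl] <;> abel
  have h := relOk_eq
  simp only [relOk, Bool.and_eq_true, List.all_eq_true, decide_eq_true_eq, Nat.blt_eq] at h
  obtain ⟨hrel, htot⟩ := h
  have htriv : ∀ p ∈ pairs, (run p.1 p.2).2.1 + l 0 (run p.1 p.2).2.2.1 + l 1 (run p.1 p.2).2.2.2 = 0 := by
    intro p hp
    simp only [pairs, List.mem_flatMap, List.mem_map] at hp
    obtain ⟨r, hr, u, -, rfl⟩ := hp
    obtain ⟨h1, h2⟩ := hrel r hr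
    have he : ((r.1.map g).prod : Equiv.Perm GolayPt) = evalT Data.tabs r.1 := by
      have key : ∀ w : List ℕ, (∀ k ∈ w, k < 2) →
          ((w.map g).prod : Equiv.Perm GolayPt) = evalT Data.tabs w := by
        intro w
        induction w with
        | nil => intro; rfl
        | cons k w ih =>
          intro hk
          rw [List.map_cons, List.prod_cons, Subgroup.coe_mul, ih fun j hj => hk j (List.mem_cons_of_mem _ hj)]
          show _ = tabPerm (genTab Data.tabs k) * _
          have : k < 2 := hk k List.mem_cons_self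
          interval_cases k <;> rfl
      exact key r.1 h2
    have h1' : (r.1.map g).prod = 1 := Subtype.ext (he.trans ((M23Gen.Use.trivW_iff tabs_ok _).1 h1))
    have := congrArg Prod.snd (hrun r.1 ⟨u % 2048, Nat.mod_lt _ (by norm_num)⟩)
    rw [h1', map_one] at this
    exact this.symm
  have hall : ∀ ps : List (List ℕ × W), (∀ p ∈ ps, p ∈ pairs) →
      (total ps).1 + l 0 (total ps).2.1 + l 1 (total ps).2.2 = 0 := by
    intro ps
    induction ps with
    | nil =>
      intro
      have l00 : l 0 0 = 0 := by have := hl 0 0 0; rwa [xr_self, add_self₂] at this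
      have l10 : l 1 0 = 0 := by have := hl 1 0 0; rwa [xr_self, add_self₂] at this
      simp [total, l00, l10]
    | cons p ps ih =>
      intro hm
      simp only [total, hl]
      have a := htriv p (hm p List.mem_cons_self)
      have b := ih fun q hq => hm q (List.mem_cons_of_mem _ hq)
      linear_combination a + b
  have := hall pairs fun p hp => hp
  rw [htot] at this
  have l00 : l 0 0 = 0 := by have := hl 0 0 0; rwa [xr_self, add_self₂] at this
  have l10 : l 1 0 = 0 := by have := hl 1 0 0; rwa [xr_self, add_self₂] at this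
  simp [l00, l10] at this

end Cfsg.Agent.M23Cocode.Build
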