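import Cfsg.Agent.Lib.M23Cocode.Data
import Cfsg.Agent.Lib.M23Gen.Use
import Cfsg.Agent.Lib.M24Module.Basic

/-!
The subcode of dimension 11 with a cubic loop cocycle, and two lifts of permutations.
-/

set_option autoImplicit false
set_option maxRecDepth 20000

namespace Cfsg.Agent.M23Cocode.Loop

open Cfsg Cfsg.Agent.Golay.Basic Cfsg.Agent.Golay.M24 Cfsg.Agent.Golay.Cert

/-- Coordinates of the subcode. -/
abbrev W : Type := Fin 2048

/-- Addition of coordinates. -/
def xr (u v : W) : W := ⟨u.1 ^^^ v.1, Nat.xor_lt_two_pow (n := 11) u.2 v.2⟩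

/-- A unit vector. -/
def bit (j : ℕ) : W := ⟨2 ^ j % 2048, Nat.mod_lt _ (by norm_num)⟩

theorem xr_self (u : W) : xr u u = 0 := Fin.ext (Nat.xor_self _)

theorem xr_zero (u : W) : xr u 0 = u := Fin.ext (Nat.xor_zero _)

theorem zero_xr (u : W) : xr 0 u = u := Fin.ext (Nat.zero_xor _)

theorem xr_assoc (u v w : W) : xr (xr u v) w = xr u (xr v w) := Fin.ext (Nat.xor_assoc _ _ _)

theorem xr_cancel (u v : W) : xr (xr u v) v = u := by rw [xr_assoc, xr_self, xr_zero]

/-- A lower point exists under every nonzero one. -/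
def lowerOk : Bool :=
  (List.range 2048).all fun v => Nat.beq v 0 || (List.range 11).any fun j => Nat.blt (v ^^^ 2 ^ j) v

theorem lowerOk_eq : lowerOk = true := by decide +kernel

theorem induct_bits (P : W → Prop) (h0 : P 0) (hs : ∀ v, ∀ j < 11, P v → P (xr v (bit j))) :
    ∀ v, P v := by
  have key : ∀ n, ∀ v : W, v.1 = n → P v := by
    intro n
    induction n using Nat.strong_induction_on with
    | _ n ih =>
      intro v hv
      have h := lowerOk_eq
      simp only [lowerOk, List.all_eq_true, List.mem_range, Bool.or_eq_true, List.any_eq_true,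
        Nat.blt_eq] at h
      rcases h v.1 v.2 with h | ⟨j, hj, hlt⟩
      · have : v = 0 := Fin.ext (Nat.eq_of_beq_eq_true h)
        rw [this]; exact h0
      · have hb : (bit j).1 = 2 ^ j := Nat.mod_eq_of_lt
          (Nat.pow_lt_pow_right (by norm_num) hj |>.trans_le (le_of_eq (by norm_num)))
        have hlt' : (xr v (bit j)).1 < n := by
          show v.1 ^^^ (bit j).1 < n
          rw [hb, ← hv]; exact hlt
        have := hs _ j hj (ih _ hlt' _ rfl)
        rwa [xr_cancel] at this
  exact fun v => key _ v rfl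

theorem add_eq_of_bits {A : Type*} [AddCommMonoid A] {f g : W → A}
    (hf : ∀ u v, f (xr u v) = f u + f v) (hg : ∀ u v, g (xr u v) = g u + g v) (h0 : f 0 = g 0)
    (hb : ∀ j < 11, f (bit j) = g (bit j)) : ∀ v, f v = g v :=
  induct_bits _ h0 fun v j hj ih => by rw [hf, hg, ih, hb j hj]

/-- The mask of a word of the subcode. -/
def cm (u : W) : ℕ := enc Data.sub u.1

/-- The word. -/
def cw (u : W) : GolayPt → ZMod 2 := word (maskSet (cm u))

theorem cm_xr (u v : W) : cm (xr u v) = cm u ^^^ cm v := enc_xor _ _ _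

theorem cw_xr (u v : W) : cw (xr u v) = cw u + cw v := by
  rw [cw, cm_xr, mask_maskSet_xor, word_symmDiff]; rfl

theorem cw_zero : cw 0 = 0 := by
  have h : maskSet (cm 0) = ∅ := by
    ext p; simp [cm, enc_zero]
  rw [cw, h, M24Module.Basic.word_empty]

/-- The parity of a common part of two masks. -/
def par2 (a b : ℕ) : ZMod 2 := (pc (a &&& b) : ℕ)

theorem par2_eq (a b : ℕ) : par2 a b = ∑ p : GolayPt, word (maskSet a) p * word (maskSet b) p := by
  have h : maskSet (a &&& b) = maskSet a ∩ maskSet b := by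
    ext p; simp [Nat.testBit_and]
  rw [par2, ← card_maskSet, h]
  simp only [word, mul_ite, mul_one, mul_zero, ← ite_and, Finset.sum_boole]
  congr 2
  ext p
  simp [and_comm]

theorem par2_comm (a b : ℕ) : par2 a b = par2 b a := by rw [par2, par2, Nat.and_comm]

theorem par2_xor (a b c : ℕ) : par2 a (b ^^^ c) = par2 a b + par2 a c := by
  simp only [par2_eq, mask_maskSet_xor, word_symmDiff, Pi.add_apply, mul_add, Finset.sum_add_distrib]

/-- The quadratic table. -/
def qd (u : W) : ℕ := (Data.quad >>> (11 * u.1)) % 2048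

/-- The cocycle. -/
def phi (u v : W) : ZMod 2 := par2 (qd u) v.1

theorem phi_xr (u v w : W) : phi u (xr v w) = phi u v + phi u w := par2_xor _ _ _

theorem phi_zero (u : W) : phi u 0 = 0 := by
  simp [phi, par2, show pc 0 = 0 from rfl]

/-- The table of one of the permutations. -/
def tb (k : Fin 2) : ℕ := Data.tabs.getD k.1 idTab

/-- The linear map. -/
def gimg (k : Fin 2) (u : W) : W := ⟨enc (Data.imgs.getD k.1 []) u.1 % 2048, Nat.mod_lt _ (by norm_num)⟩

theorem gimg_xr (k : Fin 2) (u v : W) : gimg k (xr u v) = xr (gimg k u) (gimg k v) :=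
  Fin.ext (by
    show enc _ (u.1 ^^^ v.1) % 2 ^ 11 = (enc _ u.1 % 2 ^ 11) ^^^ (enc _ v.1 % 2 ^ 11)
    rw [enc_xor, Nat.xor_mod_two_pow])

theorem gimg_zero (k : Fin 2) : gimg k 0 = 0 := Fin.ext (by simp [gimg, enc_zero])

/-- The sign function. -/
def sgn (k : Fin 2) (u : W) : ZMod 2 := if (Data.signs.getD k.1 0).testBit u.1 then 1 else 0

/-- The defect. -/
def psi (k : Fin 2) (u v : W) : ZMod 2 := phi (gimg k u) (gimg k v) + phi u v

/-- The defect is given by linear forms. -/
def defectOk (k : Fin 2) : Bool :=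
  (List.finRange 2048).all fun u => (List.range 11).all fun j =>
    decide (psi k u (bit j) = par2 ((Data.defect.getD k.1 []).getD j 0) u.1)

theorem defectOk_eq : ∀ k, defectOk k = true := by decide +kernel

/-- The signs at neighbours. -/
def signOk (k : Fin 2) : Bool :=
  decide (sgn k 0 = 0) && (List.finRange 2048).all fun u => (List.range 11).all fun j =>
    decide (sgn k (xr u (bit j)) = sgn k u + sgn k (bit j) + psi k u (bit j))

theorem signOk_eq : ∀ k, signOk k = true := by decide +kernel

theorem psi_xr (k : Fin 2) (u v w : W) : psi k u (xr v w) = psi k u v + psi k u w := by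
  simp only [psi, gimg_xr, phi_xr]; abel

theorem psi_left (k : Fin 2) (u v : W) {j : ℕ} (hj : j < 11) :
    psi k (xr u v) (bit j) = psi k u (bit j) + psi k v (bit j) := by
  have h := defectOk_eq k
  simp only [defectOk, List.all_eq_true, List.mem_range, decide_eq_true_eq] at h
  rw [h _ (List.mem_finRange _) j hj, h _ (List.mem_finRange _) j hj, h _ (List.mem_finRange _) j hj]
  exact par2_xor _ _ _

theorem sgn_mul (k : Fin 2) (u : W) : ∀ v, sgn k (xr u v) = sgn k u + sgn k v + psi k u v := by
  have h := signOk_eq k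
  simp only [signOk, Bool.and_eq_true, List.all_eq_true, List.mem_range, decide_eq_true_eq] at h
  obtain ⟨h0, hs⟩ := h
  refine induct_bits _ ?_ fun v j hj ih => ?_
  · simp [xr_zero, h0, psi, gimg_zero, phi_zero]
  · rw [← xr_assoc, hs _ (List.mem_finRange _) j hj, ih, hs _ (List.mem_finRange _) j hj,
      psi_left k u v hj, psi_xr]
    abel

/-- The action on the basis. -/
def imgOk (k : Fin 2) : Bool :=
  tabOK (tb k) && Nat.beq (tabAt (tb k) 23) 23 &&
    (List.range 11).all fun j => imgTab (tb k) (cm (bit j)) == cm (gimg k (bit j))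

theorem imgOk_eq : ∀ k, imgOk k = true := by decide +kernel

/-- One of the permutations. -/
noncomputable def pg (k : Fin 2) : ↥Spor.M23 :=
  ⟨tabPerm (tb k), by
    have h := imgOk_eq k
    simp only [imgOk, Bool.and_eq_true] at h
    exact M23Gen.Use.mem_of_tab h.1.1 (Nat.eq_of_beq_eq_true h.1.2)⟩

/-- Bounds and decoding. -/
def decAux : List ℕ → ℕ → ℕ
  | [], _ => 0
  | d :: ds, m => pc (m &&& d) % 2 + 2 * decAux ds m

/-- The decoding check. -/
def decOk : Bool :=
  (List.finRange 2048).all fun u => Nat.blt (cm u) 16777216 && Nat.beq (decAux Data.dual (cm u)) u.1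

theorem decOk_eq : decOk = true := by decide +kernel

theorem cm_lt (u : W) : cm u < 2 ^ 24 := by
  have h := decOk_eq
  simp only [decOk, List.all_eq_true, Bool.and_eq_true, Nat.blt_eq] at h
  exact (h u (List.mem_finRange _)).1

theorem cw_injective : Function.Injective cw := by
  intro u v e
  have h := decOk_eq
  simp only [decOk, List.all_eq_true, Bool.and_eq_true] at h
  have hs : maskSet (cm u) = maskSet (cm v) := by
    have := congrArg support₂ e
    rwa [cw, cw, support₂_word, support₂_word] at this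
  have hm : cm u = cm v := by rw [← mask_maskSet (cm_lt u), hs, mask_maskSet (cm_lt v)]
  apply Fin.ext
  rw [← Nat.eq_of_beq_eq_true (h u (List.mem_finRange _)).2, hm,
    Nat.eq_of_beq_eq_true (h v (List.mem_finRange _)).2]

theorem cw_gimg (k : Fin 2) : ∀ u, cw (gimg k u) = fun p => cw u (((pg k : Equiv.Perm GolayPt))⁻¹ p) := by
  refine add_eq_of_bits (fun u v => by rw [gimg_xr, cw_xr]) (fun u v => ?_) ?_ fun j hj => ?_
  · funext p; rw [cw_xr]; rfl
  · funext p; rw [gimg_zero, cw_zero]; rfl
  · have h := imgOk_eq k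
    simp only [imgOk, Bool.and_eq_true, List.all_eq_true, List.mem_range, beq_iff_eq] at h
    have ht : IsTab (tb k) (pg k : Equiv.Perm GolayPt) := isTab_tabPerm h.1.1
    have h1 := imgTab_mask ht (maskSet (cm (bit j)))
    rw [mask_maskSet (cm_lt _), h.2 j hj] at h1
    show word (maskSet (cm (gimg k (bit j)))) = _
    rw [h1, maskSet_mask, ← M24Module.Basic.permW_word]
    rfl

end Cfsg.Agent.M23Cocode.Loop
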